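import Cfsg.Agent.Lib.Cores.Basic
import Cfsg.Agent.Lib.Transfer.Residual
import Cfsg.Agent.Lib.Isolated.Basic

/-!
Groups of characteristic `p` (`C_G(O_p(G)) ≤ O_p(G)`): elementary lemmas.

* `eq_one_of_commute`: a commutator `[x,y]` of `p`-power order commuting with the `p'`-element `y` is `1`.
* `commute_of_centralizes_centralizer`: Thompson's `P × Q` lemma for one acting `p'`-element.
* `eq_one_of_centralizes_pCore`: in a group of characteristic `p` a `p'`-element centralising `O_p` is `1`.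
* `isPGroup_of_coprime_eq_one`, `charP_of_forall`.
* `pCore_subgroupOf_le`: `O_p(G) ∩ H ≤ O_p(H)`.
* `charP_of_normalized`: subgroups normalised by `O_p(G)` inherit characteristic `p`.
* `charP_of_isSubnormal`: subnormal subgroups inherit characteristic `p`.
-/

set_option autoImplicit false

namespace Cfsg.Agent.CharP

open scoped commutatorElement

variable {G : Type*} [Group G] {p : ℕ}

/-- If `c = [x,y]` has `p`-power order and commutes with the `p'`-element `y`, then `x, y` commute. -/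
theorem eq_one_of_commute {x y : G} (hy : (orderOf y).Coprime p)
    (hc : ∃ k : ℕ, (x * y * x⁻¹ * y⁻¹) ^ p ^ k = 1) (h : Commute (x * y * x⁻¹ * y⁻¹) y) :
    Commute x y := by
  obtain ⟨k, hk⟩ := hc
  have h1 : (x * y * x⁻¹ * y⁻¹ * y) ^ orderOf y = 1 := by
    rw [inv_mul_cancel_right, conj_pow, pow_orderOf_eq_one, mul_one, mul_inv_cancel]
  rw [h.mul_pow, pow_orderOf_eq_one, mul_one] at h1
  have h2 : x * y * x⁻¹ * y⁻¹ = 1 := by
    refine orderOf_eq_one_iff.mp (Nat.eq_one_of_dvd_coprimes (hy.pow_right k) ?_ ?_)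
    · exact orderOf_dvd_of_pow_eq_one h1
    · exact orderOf_dvd_of_pow_eq_one hk
  have h3 := mul_inv_eq_one.mp h2
  exact mul_inv_eq_iff_eq_mul.mp h3

/-- Thompson's `P × Q` lemma: a `p'`-element `y` normalising the `p`-group `P`, centralising the
`p`-group `Q` (which normalises `P`) and centralising `C_P(Q)`, centralises `P`. -/
theorem commute_of_centralizes_centralizer [Finite G] [Fact p.Prime] {P Q : Subgroup G}
    (hP : IsPGroup p P) (hQ : IsPGroup p Q) (hQP : Q ≤ Subgroup.normalizer (P : Set G))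
    {y : G} (hy : (orderOf y).Coprime p) (hyP : y ∈ Subgroup.normalizer (P : Set G))
    (hyQ : ∀ q ∈ Q, Commute y q) (h : ∀ x ∈ P, (∀ q ∈ Q, Commute x q) → Commute y x) :
    ∀ x ∈ P, Commute y x := by
  set D : Subgroup G := P ⊓ Subgroup.centralizer ({y} : Set G) with hD
  have hmemD : ∀ x, x ∈ D ↔ x ∈ P ∧ Commute y x := fun x => by
    simp [hD, Subgroup.mem_inf, Subgroup.mem_centralizer_singleton_iff, commute_iff_eq, eq_comm]
  suffices hDP : D = P by
    intro x hx
    exact ((hmemD x).1 (hDP.symm ▸ hx)).2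
  have hQD : ∀ q ∈ Q, ∀ d ∈ D, q * d * q⁻¹ ∈ D := by
    intro q hq d hd
    obtain ⟨hdP, hdy⟩ := (hmemD d).1 hd
    exact (hmemD _).2 ⟨(Subgroup.mem_normalizer_iff.mp (hQP hq) d).mp hdP,
      ((hyQ q hq).mul_right hdy).mul_right (hyQ q hq).inv_right⟩
  have main : ∀ x ∈ P, x ∈ Subgroup.normalizer (D : Set G) →
      (∀ q ∈ Q, q * x * q⁻¹ * x⁻¹ ∈ D) → x ∈ D := by
    intro x hxP hxN hx
    refine (hmemD x).2 ⟨hxP, ?_⟩
    set c := x * y * x⁻¹ * y⁻¹ with hc
    have hcP : c ∈ P := by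
      have h1 : y * x⁻¹ * y⁻¹ ∈ P :=
        (Subgroup.mem_normalizer_iff.mp hyP x⁻¹).mp (inv_mem hxP)
      simpa [hc, mul_assoc] using mul_mem hxP h1
    have hcD : ∀ d ∈ D, Commute c d := by
      intro d hd
      have h1 : Commute y d := ((hmemD d).1 hd).2
      have h2 : Commute y (x⁻¹ * d * x) :=
        ((hmemD _).1 (((Subgroup.mem_normalizer_iff'').mp hxN d).mp hd)).2
      have h3 : Commute (x * y * x⁻¹) d := by
        have := h2.map (MulAut.conj x)
        simpa [mul_assoc] using this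
      exact h3.mul_left h1.inv_left
    have hcQ : ∀ q ∈ Q, Commute c q := by
      intro q hq
      have hqy : q * y * q⁻¹ = y := by rw [← (hyQ q hq).eq, mul_inv_cancel_right]
      have hd := hx q hq
      set d := q * x * q⁻¹ * x⁻¹ with hdd
      have hdy : Commute y d := ((hmemD d).1 hd).2
      have e0 : q * x * q⁻¹ = d * x := by simp [hdd]
      have e1 : q * c * q⁻¹ =
          (q * x * q⁻¹) * (q * y * q⁻¹) * (q * x * q⁻¹)⁻¹ * (q * y * q⁻¹)⁻¹ := by
        rw [hc]; group
      have e2 : q * c * q⁻¹ = c := by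
        rw [e1, hqy, e0]
        calc d * x * y * (d * x)⁻¹ * y⁻¹ = d * (x * y * x⁻¹) * (d⁻¹ * y⁻¹) := by group
          _ = d * (x * y * x⁻¹) * (y⁻¹ * d⁻¹) := by rw [(hdy.inv_inv).eq]
          _ = d * c * d⁻¹ := by rw [hc]; group
          _ = c := by rw [← (hcD d hd).eq, mul_inv_cancel_right]
      exact (mul_inv_eq_iff_eq_mul.mp e2).symm
    have hcy : Commute c y := (h c hcP hcQ).symm
    have hck : ∃ k : ℕ, c ^ p ^ k = 1 := by
      obtain ⟨k, hk⟩ := hP ⟨c, hcP⟩
      exact ⟨k, by simpa using congrArg Subtype.val hk⟩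
    exact (eq_one_of_commute hy hck hcy).symm
  refine Cfsg.Agent.Isolated.eq_of_normalizer_le hP inf_le_left fun x hxP hxN => ?_
  set W := P ⊔ Q with hW
  have hWp : IsPGroup p W := hP.to_sup_of_normal_left' hQ hQP
  obtain ⟨n, hn⟩ := (Subgroup.isNilpotent_iff_lowerCentralSeries W).mp hWp.isNilpotent
  have hQN : Q ≤ Subgroup.normalizer (D : Set G) := by
    intro q hq
    rw [Subgroup.mem_normalizer_iff]
    refine fun d => ⟨hQD q hq d, fun hd => ?_⟩
    simpa [mul_assoc] using hQD q⁻¹ (inv_mem hq) _ hd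
  have key : ∀ j i : ℕ, i + j = n → ∀ x ∈ P, x ∈ Subgroup.normalizer (D : Set G) →
      x ∈ W.lowerCentralSeries i → x ∈ D := by
    intro j
    induction j with
    | zero =>
      intro i hi x _ _ hx
      obtain rfl : i = n := by omega
      rw [hn] at hx
      rw [Subgroup.mem_bot.mp hx]
      exact one_mem _
    | succ j ih =>
      intro i hi x hxP hxN hx
      refine main x hxP hxN fun q hq => ?_
      have hqx : q * x * q⁻¹ ∈ P := (Subgroup.mem_normalizer_iff.mp (hQP hq) x).mp hxP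
      refine ih (i + 1) (by omega) _ (mul_mem hqx (inv_mem hxP))
        (mul_mem (mul_mem (mul_mem (hQN hq) hxN) (inv_mem (hQN hq))) (inv_mem hxN)) ?_
      have he : q * x * q⁻¹ * x⁻¹ = ⁅x, q⁆⁻¹ := by rw [commutatorElement_def]; group
      rw [he, Subgroup.lowerCentralSeries_succ]
      exact inv_mem (Subgroup.commutator_mem_commutator hx (Subgroup.mem_sup_right hq))
  exact key n 0 (by omega) x hxP hxN (by simpa using Subgroup.mem_sup_left hxP)

/-- In a group of characteristic `p`, a `p'`-element centralising `O_p(G)` is trivial. -/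
theorem eq_one_of_centralizes_pCore
    (hG : Subgroup.centralizer (Cfsg.pCore p G : Set G) ≤ Cfsg.pCore p G) {y : G}
    (hy : (orderOf y).Coprime p) (h : ∀ r ∈ Cfsg.pCore p G, Commute y r) : y = 1 := by
  have hyR : y ∈ Cfsg.pCore p G :=
    hG (Subgroup.mem_centralizer_iff.mpr fun r hr => (h r hr).eq.symm)
  obtain ⟨k, hk⟩ := Cfsg.Agent.Cores.isPGroup_pCore p G ⟨y, hyR⟩
  refine orderOf_eq_one_iff.mp (Nat.eq_one_of_dvd_coprimes (hy.pow_right k) dvd_rfl ?_)
  exact orderOf_dvd_of_pow_eq_one (by simpa using congrArg Subtype.val hk)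

/-- A subgroup without nontrivial `p'`-elements is a `p`-group. -/
theorem isPGroup_of_coprime_eq_one [Finite G] [Fact p.Prime] {H : Subgroup G}
    (h : ∀ y ∈ H, (orderOf y).Coprime p → y = 1) : IsPGroup p H := by
  rintro ⟨z, hz⟩
  obtain ⟨a, b, hab, ha, hb, ⟨k, hk⟩, hbp⟩ := Cfsg.Agent.Transfer.exists_pPart_mul (p := p) z
  have hb1 : b = 1 := h b (Subgroup.zpowers_le.mpr hz hb) hbp
  refine ⟨k, Subtype.ext ?_⟩
  rw [hb1, mul_one] at hab
  rw [SubgroupClass.coe_pow, OneMemClass.coe_one]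
  show z ^ p ^ k = 1
  rw [hab, ← hk, pow_orderOf_eq_one]

/-- To prove `C(O_p) ≤ O_p` it suffices that `p'`-elements centralising `O_p` are trivial. -/
theorem charP_of_forall [Finite G] [Fact p.Prime]
    (h : ∀ y : G, (orderOf y).Coprime p → (∀ r ∈ Cfsg.pCore p G, Commute y r) → y = 1) :
    Subgroup.centralizer (Cfsg.pCore p G : Set G) ≤ Cfsg.pCore p G :=
  Cfsg.Agent.Cores.le_pCore inferInstance (isPGroup_of_coprime_eq_one fun y hy hyp =>
    h y hyp fun r hr => (Subgroup.mem_centralizer_iff.mp hy r hr).symm)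

/-- `O_p(G) ∩ H ≤ O_p(H)`. -/
theorem pCore_subgroupOf_le (H : Subgroup G) :
    (Cfsg.pCore p G).subgroupOf H ≤ Cfsg.pCore p ↥H :=
  Cfsg.Agent.Cores.le_pCore inferInstance ((Cfsg.Agent.Cores.isPGroup_pCore p G).comap_subtype)

/-- A subgroup normalised by `O_p(G)` of a group of characteristic `p` has characteristic `p`. -/
theorem charP_of_normalized [Finite G] [Fact p.Prime]
    (hG : Subgroup.centralizer (Cfsg.pCore p G : Set G) ≤ Cfsg.pCore p G) (L : Subgroup G)
    (hL : Cfsg.pCore p G ≤ Subgroup.normalizer (L : Set G)) :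
    Subgroup.centralizer (Cfsg.pCore p ↥L : Set ↥L) ≤ Cfsg.pCore p ↥L := by
  refine charP_of_forall fun y hy hyc => ?_
  have hy' : (orderOf (y : G)).Coprime p := by rwa [Subgroup.orderOf_coe]
  refine Subtype.ext (eq_one_of_centralizes_pCore hG hy' fun r hr => ?_)
  have h1 : r * (y : G) * r⁻¹ ∈ L := (Subgroup.mem_normalizer_iff.mp (hL hr) _).mp y.2
  have h2 : (y : G) * r⁻¹ * (y : G)⁻¹ ∈ Cfsg.pCore p G :=
    (Cfsg.Agent.Cores.pCore_normal p G).conj_mem _ (inv_mem hr) _
  have hcL : r * (y : G) * r⁻¹ * (y : G)⁻¹ ∈ L := mul_mem h1 (inv_mem y.2)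
  have hcR : r * (y : G) * r⁻¹ * (y : G)⁻¹ ∈ Cfsg.pCore p G := by
    simpa [mul_assoc] using mul_mem hr h2
  have hcy := hyc ⟨_, hcL⟩ (pCore_subgroupOf_le L hcR)
  have hcy' : Commute (y : G) (r * (y : G) * r⁻¹ * (y : G)⁻¹) := congrArg Subtype.val hcy.eq
  obtain ⟨k, hk⟩ := Cfsg.Agent.Cores.isPGroup_pCore p G ⟨_, hcR⟩
  exact (eq_one_of_commute hy' ⟨k, by simpa using congrArg Subtype.val hk⟩ hcy'.symm).symm

/-- Characteristic `p` is invariant under isomorphism. -/
theorem charP_of_equiv {H : Type*} [Group H] (e : G ≃* H)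
    (hG : Subgroup.centralizer (Cfsg.pCore p G : Set G) ≤ Cfsg.pCore p G) :
    Subgroup.centralizer (Cfsg.pCore p H : Set H) ≤ Cfsg.pCore p H := by
  intro z hz
  have he := Cfsg.Agent.Cores.pCore_map_mulEquiv e p
  have hmem : e.symm z ∈ Cfsg.pCore p G := by
    refine hG (Subgroup.mem_centralizer_iff.mpr fun r hr => e.injective ?_)
    simpa using Subgroup.mem_centralizer_iff.mp hz (e r) (he ▸ ⟨r, hr, rfl⟩)
  rw [← he]
  exact ⟨_, hmem, by simp⟩

/-- Subnormal subgroups of a group of characteristic `p` have characteristic `p`. -/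
theorem charP_of_isSubnormal [Finite G] [Fact p.Prime]
    (hG : Subgroup.centralizer (Cfsg.pCore p G : Set G) ≤ Cfsg.pCore p G) {Y : Subgroup G}
    (hY : Y.IsSubnormal) :
    Subgroup.centralizer (Cfsg.pCore p ↥Y : Set ↥Y) ≤ Cfsg.pCore p ↥Y := by
  induction hY with
  | top => exact charP_of_equiv Subgroup.topEquiv.symm hG
  | step H K h_le _ hN ih =>
    refine charP_of_equiv (Subgroup.subgroupOfEquivOfLe h_le) ?_
    exact charP_of_normalized ih _ (by rw [Subgroup.normalizer_eq_top_iff.mpr hN]; exact le_top)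

end Cfsg.Agent.CharP
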