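import Cfsg.Agent.Lib.Cores.Fitting
import Cfsg.Agent.Lib.Components.Basic
import Cfsg.Agent.Lib.CharP.Basic

/-!
* `centralizer_fitting_le_of_layer_eq_bot`: `E(G) = 1` gives `C(F(G)) ≤ F(G)`.
* `charP_of_generalizedFitting_eq`: `F*(G) = O_p(G)` gives `C(O_p(G)) ≤ O_p(G)`.
-/

set_option autoImplicit false

namespace Cfsg.Agent.CharP

/-- Without components the Fitting subgroup contains its centraliser. -/
theorem centralizer_fitting_le_of_layer_eq_bot {G : Type*} [Group G] [Finite G]
    (h : Cfsg.layer G = ⊥) :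
    Subgroup.centralizer (Cfsg.fittingSubgroup G : Set G) ≤ Cfsg.fittingSubgroup G := by
  set F := Cfsg.fittingSubgroup G
  by_contra hne
  let s : Set (Subgroup G) :=
    {K | K.IsSubnormal ∧ K ≤ Subgroup.centralizer (F : Set G) ∧ ¬ K ≤ F}
  obtain ⟨K, hKs⟩ := Set.Finite.exists_minimal (Set.toFinite s)
    ⟨_, Subgroup.Normal.isSubnormal inferInstance, le_rfl, hne⟩
  obtain ⟨hKsn, hKC, hKF⟩ := hKs.prop
  have hsub : ∀ M : Subgroup K, M.Normal → M = ⊤ ∨ M ≤ Subgroup.center K := by
    intro M hM
    by_cases hMF : M.map K.subtype ≤ F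
    · right
      intro m hm
      refine Subgroup.mem_center_iff.mpr fun g => Subtype.ext ?_
      exact (Subgroup.mem_centralizer_iff.mp (hKC g.2) _ (hMF ⟨m, hm, rfl⟩)).symm
    · left
      have hle := Subgroup.map_subtype_le M
      have hsn : (M.map K.subtype).IsSubnormal := Subgroup.IsSubnormal.trans' hM.isSubnormal hKsn
      have heq := hKs.le_of_le ⟨hsn, hle.trans hKC, hMF⟩ hle
      refine Subgroup.map_injective K.subtype_injective ?_
      rw [← MonoidHom.range_eq_map, Subgroup.range_subtype]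
      exact le_antisymm hle heq
  have hcne : Subgroup.center K ≠ ⊤ := by
    intro hc
    refine hKF (Cfsg.Agent.Cores.le_fittingSubgroup_of_isSubnormal hKsn ?_)
    haveI : IsMulCommutative K :=
      ⟨⟨fun a b => Subgroup.mem_center_iff.mp (hc ▸ Subgroup.mem_top b) a⟩⟩
    exact Cfsg.Agent.Cores.isNilpotent_of_isMulCommutative K
  have hperf : ⁅(⊤ : Subgroup K), (⊤ : Subgroup K)⁆ = (⊤ : Subgroup K) := by
    rcases hsub ⁅(⊤ : Subgroup K), (⊤ : Subgroup K)⁆ inferInstance with h1 | h1
    · exact h1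
    · exfalso
      refine hKF (Cfsg.Agent.Cores.le_fittingSubgroup_of_isSubnormal hKsn ?_)
      refine Subgroup.nilpotent_iff_lowerCentralSeries.mpr ⟨2, ?_⟩
      refine Subgroup.lowerCentralSeries_succ_eq_bot _ ?_
      simpa [Subgroup.lowerCentralSeries_succ] using h1
  have hcomp : Cfsg.IsComponent K := by
    refine ⟨hKsn, Subgroup.isPerfect_iff.mpr ?_, ?_⟩
    · have := congrArg (Subgroup.map K.subtype) hperf
      rwa [Subgroup.map_commutator, ← MonoidHom.range_eq_map, Subgroup.range_subtype] at this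
    · haveI : Nontrivial (K ⧸ Subgroup.center K) := QuotientGroup.nontrivial_iff.mpr hcne
      refine ⟨fun M hM => ?_⟩
      have hc : (M.comap (QuotientGroup.mk' (Subgroup.center K))).map (QuotientGroup.mk' _) = M :=
        Subgroup.map_comap_eq_self_of_surjective (QuotientGroup.mk'_surjective _) M
      rcases hsub (M.comap (QuotientGroup.mk' (Subgroup.center K))) (hM.comap _) with h1 | h1
      · right; rw [← hc, h1, Subgroup.map_top_of_surjective _ (QuotientGroup.mk'_surjective _)]
      · left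
        rw [← hc, eq_bot_iff]
        rintro _ ⟨m, hm, rfl⟩
        exact (QuotientGroup.eq_one_iff m).mpr (h1 hm)
  have hKl : K ≤ Cfsg.layer G := le_sSup hcomp
  rw [h, le_bot_iff] at hKl
  exact hKF (hKl ▸ bot_le)

/-- `F*(G) = O_p(G)` gives characteristic `p`. -/
theorem charP_of_generalizedFitting_eq {G : Type*} [Group G] [Finite G] {p : ℕ} [Fact p.Prime]
    (h : Cfsg.generalizedFittingSubgroup G = Cfsg.pCore p G) :
    Subgroup.centralizer (Cfsg.pCore p G : Set G) ≤ Cfsg.pCore p G := by
  have hle : Cfsg.layer G ≤ Cfsg.pCore p G := h ▸ le_sup_left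
  have hl : Cfsg.layer G = ⊥ := by
    refine le_bot_iff.mp (Cfsg.Agent.Components.layer_le fun L hL => absurd ?_
      (Cfsg.Agent.Components.IsQuasisimple.not_isNilpotent hL.2))
    exact ((Cfsg.Agent.Cores.isPGroup_pCore p G).to_le
      ((Cfsg.Agent.Components.IsComponent.le_layer hL).trans hle)).isNilpotent
  have hF : Cfsg.fittingSubgroup G = Cfsg.pCore p G := by
    rw [← h, Cfsg.generalizedFittingSubgroup, hl, bot_sup_eq]
  rw [← hF]
  exact centralizer_fitting_le_of_layer_eq_bot hl

end Cfsg.Agent.CharP
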